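import Groth.Agent.CanMod.Basic
import Groth.Agent.LocCohTransform.NonVanish
import Groth.Agent.GrMod.ExtComplex

/-!
Endomorphisms of a canonical module, the Gorenstein criterion `K ≅ R`, and the type of `R`.
-/

set_option autoImplicit false
universe u

open CategoryTheory IsLocalRing InjHull GrothGoren Groth.LocCohBase Groth.LocDual RingTheory.Sequence
open scoped Pointwise

namespace Groth.CanMod

variable {R : Type u} [CommRing R] [IsLocalRing R] [IsNoetherianRing R]
  {E : Type u} [AddCommGroup E] [Module R E] {f : ResidueField R →ₗ[R] E}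

omit [IsNoetherianRing R] in
theorem Pair.annihilates (hf : IsInjectiveHull f) {d : ℕ} {M N : Type u} [AddCommGroup M]
    [Module R M] [AddCommGroup N] [Module R N] (P : Pair R E d M N) {a : R}
    (ha : ∀ w : M, a • w = 0) (v : N) : a • v = 0 := by
  obtain ⟨e⟩ := P.dual
  refine eq_zero_of_forall_dual hf fun φ => ?_
  rw [map_smul, ← LinearMap.smul_apply, show a • φ = 0 from e.injective ?_, LinearMap.zero_apply]
  rw [map_smul, map_zero, ← hm_map_smul, show LinearMap.lsmul R M a = 0 from LinearMap.ext ha,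
    Hmap_zero]

omit [IsLocalRing R] [IsNoetherianRing R] in
theorem torsionBy_map_equiv (J : Ideal R) {X Y : Type u} [AddCommGroup X] [Module R X]
    [AddCommGroup Y] [Module R Y] (e : X ≃ₗ[R] Y) :
    (LocCoh.torsionBy J X).map e.toLinearMap = LocCoh.torsionBy J Y := by
  ext y
  rw [Submodule.mem_map_equiv, Submodule.mem_torsionBySet_iff, Submodule.mem_torsionBySet_iff]
  exact forall_congr' fun r => by rw [← map_smul, LinearEquiv.map_eq_zero_iff]

omit [IsNoetherianRing R] in
theorem residue_killed : ∀ a ∈ maximalIdeal R, ∃ k : ℕ,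
    a ^ k ∈ Module.annihilator R (ModuleCat.of R (R ⧸ maximalIdeal R)) := fun a ha => by
  refine ⟨1, ?_⟩
  rw [pow_one]
  show a ∈ Module.annihilator R (R ⧸ maximalIdeal R)
  rwa [Ideal.annihilator_quotient]

theorem isFiniteLength_of_pow_killed (M : Type u) [AddCommGroup M] [Module R M] [Module.Finite R M]
    (N : ℕ) (h : ∀ a ∈ maximalIdeal R ^ N, ∀ x : M, a • x = 0) : IsFiniteLength R M :=
  isFiniteLength_iff_isNoetherian_isArtinian.2
    ⟨inferInstance, Groth.LocCohTransform.isArtinian_of_killed M N h⟩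

/-- In dimension zero the pair is a Matlis pair. -/
theorem Pair.zero_equiv {M N : Type u} [AddCommGroup M] [Module R M] [Module.Finite R M]
    [AddCommGroup N] [Module R N] (P : Pair R E 0 M N) : Nonempty ((N →ₗ[R] E) ≃ₗ[R] M) := by
  obtain ⟨e⟩ := P.dual
  exact ⟨e.trans ((h0Equiv (maximalIdeal R) M).trans (LinearEquiv.ofTop _ (torsionSub_eq_top
    (Groth.LocCohTransform.isPowerTorsion_of_supportDim_le_zero M (le_of_eq P.dim)))))⟩

/-- If `M` is cyclic then `N` has only scalar endomorphisms and the annihilator of `M`. -/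
theorem Pair.scalars (hf : IsInjectiveHull f) : ∀ (d : ℕ) {M N : Type u} [AddCommGroup M]
    [Module R M] [Module.Finite R M] [AddCommGroup N] [Module R N] [Module.Finite R N],
    Pair R E d M N → ∀ (g : R →ₗ[R] M), Function.Surjective g →
      (∀ ψ : N →ₗ[R] N, ∃ r : R, ψ = r • LinearMap.id) ∧
        ∀ r : R, (∀ v : N, r • v = 0) → g r = 0 := by
  intro d
  induction d with
  | zero =>
    intro M N _ _ _ _ _ _ P g hg
    obtain ⟨e⟩ := P.zero_equiv
    refine ⟨fun ψ => ?_, fun r hr => ?_⟩
    · obtain ⟨a, ha⟩ := hg (e ((e.symm (g 1)) ∘ₗ ψ))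
      refine ⟨a, LinearMap.ext fun v => sub_eq_zero.1 (eq_zero_of_forall_dual hf fun φ => ?_)⟩
      obtain ⟨c, hc⟩ := hg (e φ)
      have h1 : ∀ c : R, g c = c • g 1 := fun c => by rw [← map_smul, smul_eq_mul, mul_one]
      have hφ : φ = c • e.symm (g 1) := by
        rw [← map_smul, ← h1, hc, LinearEquiv.symm_apply_apply]
      have hψ : φ ∘ₗ ψ = a • φ := by
        refine e.injective ?_
        rw [hφ, LinearMap.smul_comp, map_smul, ← ha, map_smul, map_smul,
          LinearEquiv.apply_symm_apply, h1 a, smul_comm]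
      rw [map_sub, sub_eq_zero]
      exact (LinearMap.congr_fun hψ v).trans (map_smul φ a v).symm
    · have h : g r = r • g 1 := by rw [← map_smul, smul_eq_mul, mul_one]
      rw [h, ← e.apply_symm_apply (g 1), ← map_smul]
      refine (congrArg e (LinearMap.ext fun v => ?_)).trans (map_zero e)
      rw [LinearMap.smul_apply, ← map_smul, hr, map_zero, LinearMap.zero_apply]
  | succ d ih =>
    intro M N _ _ _ _ _ _ P g hg
    haveI := nontrivial_of_CM P.cm
    obtain ⟨x, hxm, hx⟩ : ∃ x ∈ maximalIdeal R, IsSMulRegular M x := by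
      have h : ((d + 1 : ℕ) : ℕ∞) ≤ LocCoh.idealDepth (maximalIdeal R) M :=
        (le_idealDepth_iff_localCohomology _ (d + 1) M).2 P.van
      obtain ⟨rs, hlen, hrs, hmem⟩ := (le_idealDepth_iff_exists _
        (smul_maximalIdeal_ne_top M (maximalIdeal.isMaximal R).ne_top) (d + 1)).1 h
      cases rs with
      | nil => simp at hlen
      | cons x rs => exact ⟨x, hmem x (List.mem_cons_self ..), ((isWeaklyRegular_cons_iff M x rs).1 hrs).1⟩
    obtain ⟨hxN, d', hd', P'⟩ := P.step hf hxm hx
    obtain rfl : d = d' := by omega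
    let q : M →ₗ[R] QuotSMulTop x M := (x • (⊤ : Submodule R M)).mkQ
    let qN : N →ₗ[R] QuotSMulTop x N := (x • (⊤ : Submodule R N)).mkQ
    obtain ⟨hsc, hann⟩ := ih P' (q ∘ₗ g) ((Submodule.mkQ_surjective _).comp hg)
    have hxtop : ∀ {X : Type u} [AddCommGroup X] [Module R X] [Module.Finite R X] (T : Submodule R X),
        (∀ t : X, ∃ u ∈ T, ∃ w, t = u + x • w) → T = ⊤ := by
      intro X _ _ _ T hT
      refine top_le_iff.1 (Submodule.le_of_le_smul_of_le_jacobson_bot (I := Ideal.span {x})
        Module.Finite.fg_top ?_ fun t _ => ?_)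
      · rw [jacobson_eq_maximalIdeal ⊥ bot_ne_top, Ideal.span_singleton_le_iff_mem]
        exact hxm
      · obtain ⟨u, hu, w, rfl⟩ := hT t
        exact Submodule.add_mem_sup hu
          (Submodule.smul_mem_smul (Ideal.mem_span_singleton_self x) Submodule.mem_top)
    constructor
    · haveI : Module.Finite R (N →ₗ[R] N) := Module.Finite.of_injective
        (LinearMap.lcomp R N (Module.Finite.exists_fin' R N).choose_spec.choose)
        (LinearMap.lcomp_injective_of_surjective _ (Module.Finite.exists_fin' R N).choose_spec.choose_spec)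
      have htop := hxtop (LinearMap.range (LinearMap.toSpanSingleton R (N →ₗ[R] N) LinearMap.id))
        fun ψ => by
          have hstab : x • (⊤ : Submodule R N) ≤ (x • (⊤ : Submodule R N)).comap ψ := by
            intro w hw
            obtain ⟨v, -, rfl⟩ := (Submodule.mem_smul_pointwise_iff_exists _ _ _).1 hw
            rw [Submodule.mem_comap, map_smul]
            exact Submodule.smul_mem_pointwise_smul _ _ _ Submodule.mem_top
          obtain ⟨r, hr⟩ := hsc (Submodule.mapQ _ _ ψ hstab)
          have hex : ∀ v, ∃ w, x • w = ψ v - r • v := fun v => by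
            have h1 : qN (ψ v - r • v) = 0 := by
              rw [map_sub, map_smul, sub_eq_zero]
              exact LinearMap.congr_fun hr (qN v)
            obtain ⟨w, -, hw⟩ := (Submodule.mem_smul_pointwise_iff_exists _ _ _).1
              ((Submodule.Quotient.mk_eq_zero _).1 h1)
            exact ⟨w, hw⟩
          choose w hw using hex
          refine ⟨r • LinearMap.id, ⟨r, rfl⟩,
            { toFun := w, map_add' := fun a b => hxN ?_, map_smul' := fun c a => hxN ?_ },
            LinearMap.ext fun v => ?_⟩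
          · show x • w (a + b) = x • (w a + w b)
            rw [smul_add, hw, hw, hw, map_add, smul_add]; abel
          · show x • w (c • a) = x • (c • w a)
            rw [smul_comm x c, hw, hw, map_smul, smul_sub, smul_comm r c]
          · show ψ v = r • v + x • w v
            rw [hw, add_sub_cancel]
      intro ψ
      obtain ⟨r, hr⟩ : ψ ∈ LinearMap.range (LinearMap.toSpanSingleton R (N →ₗ[R] N) LinearMap.id) :=
        htop ▸ Submodule.mem_top
      exact ⟨r, hr.symm⟩
    · let I : Submodule R R :=
        { carrier := {r | ∀ v : N, r • v = 0}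
          add_mem' := fun ha hb v => by rw [add_smul, ha v, hb v, add_zero]
          zero_mem' := fun v => zero_smul R v
          smul_mem' := fun c a ha v => by rw [smul_eq_mul, mul_smul, ha v, smul_zero] }
      suffices hI : I ≤ LinearMap.ker g from fun r hr => hI hr
      refine Submodule.le_of_le_smul_of_le_jacobson_bot (I := Ideal.span {x})
        (IsNoetherian.noetherian I) ?_ fun r hr => ?_
      · rw [jacobson_eq_maximalIdeal ⊥ bot_ne_top, Ideal.span_singleton_le_iff_mem]
        exact hxm
      have h1 : q (g r) = 0 := hann r fun v => by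
        obtain ⟨v, rfl⟩ := Submodule.mkQ_surjective _ v
        rw [← map_smul, hr v, map_zero]
      obtain ⟨m', -, hm'⟩ := (Submodule.mem_smul_pointwise_iff_exists _ _ _).1
        ((Submodule.Quotient.mk_eq_zero _).1 h1)
      obtain ⟨r', rfl⟩ := hg m'
      have hk : r - x • r' ∈ LinearMap.ker g := by
        rw [LinearMap.mem_ker, map_sub, map_smul, hm', sub_self]
      rw [← sub_add_cancel r (x • r')]
      refine Submodule.add_mem_sup hk (Submodule.smul_mem_smul (Ideal.mem_span_singleton_self x) ?_)
      intro v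
      refine hxN ?_
      show x • r' • v = x • (0 : N)
      have h2 := P.annihilates hf (a := r - x • r') (fun w => by
        obtain ⟨c, rfl⟩ := hg w
        rw [← map_smul, smul_eq_mul, mul_comm, ← smul_eq_mul, map_smul, LinearMap.mem_ker.1 hk,
          smul_zero]) v
      rw [sub_smul, hr v, zero_sub, neg_eq_zero, smul_assoc] at h2
      rw [h2, smul_zero]

section Ring

variable {n : ℕ} (hR : LocCoh.IsCohenMacaulayLocalRing R) (hn : ringKrullDim R = n)
  (hf : IsInjectiveHull f) {K : Type u} [AddCommGroup K] [Module R K] [Module.Finite R K]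
  (eK : (K →ₗ[R] E) ≃ₗ[R] LocCoh.H (maximalIdeal R) n R)

include hR hn hf eK in
/-- `R → End K` is bijective. -/
theorem bijective_smul_id :
    Function.Bijective (fun r : R => r • (LinearMap.id : K →ₗ[R] K)) := by
  obtain ⟨h1, h2⟩ := (pair_self hR hn eK).scalars hf n LinearMap.id Function.surjective_id
  refine ⟨fun a b h => sub_eq_zero.1 (h2 (a - b) fun v => ?_), fun ψ => ?_⟩
  · rw [sub_smul, sub_eq_zero]
    exact LinearMap.congr_fun h v
  · obtain ⟨r, hr⟩ := h1 ψ
    exact ⟨r, hr.symm⟩

include hR hn hf eK in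
theorem gorenstein_iff : LocCoh.IsGorensteinLocalRing R ↔ Nonempty (K ≃ₗ[R] R) := by
  constructor
  · intro hG
    have hA := (isGorenstein_iff R).1 hG
    obtain ⟨-, f₀, hf₀⟩ := exists_hull_H_top n R hA hn
    obtain ⟨e₀, -⟩ := GrothMatlis.hull_unique hf hf₀
    obtain ⟨rs, hlen, hrs, hmem⟩ := exists_regular_list hR hn
    obtain ⟨-, hP⟩ := (pair_self hR hn eK).weakly_iff hf rs hmem
    obtain ⟨-, hP'⟩ := (pair_self (K := R) hR hn
      ((LinearMap.ringLmapEquivSelf R R E).trans e₀)).weakly_iff hf rs hmem
    obtain ⟨-, PK⟩ := hP hrs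
    obtain ⟨-, PR⟩ := hP' hrs
    rw [hlen, Nat.sub_self] at PK PR
    obtain ⟨eKb⟩ := PK.zero_equiv
    obtain ⟨eRb⟩ := PR.zero_equiv
    set J : Ideal R := Ideal.ofList rs
    -- `K / J K` is isomorphic to `R / J`
    have hbid : ∀ (X : Type u) [AddCommGroup X] [Module R X] [Module.Finite R X],
        ((X →ₗ[R] E) ≃ₗ[R] R ⧸ (J • ⊤ : Submodule R R)) →
        Nonempty (X ≃ₗ[R] ((R ⧸ (J • ⊤ : Submodule R R)) →ₗ[R] E)) := by
      intro X _ _ _ eX
      have hflR : IsFiniteLength R (R ⧸ (J • ⊤ : Submodule R R)) := by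
        obtain ⟨k, hk⟩ := Groth.LocCohTransform.isPowerTorsion_of_supportDim_le_zero _
          (le_of_eq PR.dim) (Submodule.Quotient.mk 1)
        refine isFiniteLength_of_pow_killed _ k fun a ha w => ?_
        obtain ⟨c, rfl⟩ := Submodule.Quotient.mk_surjective _ w
        rw [← mul_one c, ← smul_eq_mul, Submodule.Quotient.mk_smul, smul_comm, hk a ha, smul_zero]
      have hfl' : IsFiniteLength R ((X →ₗ[R] E) →ₗ[R] E) :=
        GrothMatlis.isFiniteLength_dual hf (hflR.of_injective (f := eX.toLinearMap) eX.injective)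
      exact ⟨(LinearEquiv.ofBijective _ (GrothMatlis.applyₗ_bijective_of_isFiniteLength hf
        (hfl'.of_injective (GrothMatlis.applyₗ_injective hf X)))).trans
          (LinearEquiv.congrLeft (M := E) R eX)⟩
    obtain ⟨a⟩ := hbid _ eKb
    obtain ⟨b⟩ := hbid _ eRb
    let c := b.trans a.symm
    obtain ⟨v, hv⟩ := Submodule.mkQ_surjective _ (c (Submodule.Quotient.mk 1))
    have hspan : LinearMap.range (LinearMap.toSpanSingleton R K v) = ⊤ := by
      refine top_le_iff.1 (Submodule.le_of_le_smul_of_le_jacobson_bot (I := J)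
        Module.Finite.fg_top ?_ fun t _ => ?_)
      · rw [jacobson_eq_maximalIdeal ⊥ bot_ne_top]
        exact Ideal.span_le.2 fun r hr => hmem r hr
      · obtain ⟨r, hr⟩ := Submodule.Quotient.mk_surjective _ (c.symm (Submodule.Quotient.mk t))
        have h1 : Submodule.Quotient.mk (p := (J • ⊤ : Submodule R K)) (r • v) =
            Submodule.Quotient.mk t := by
          rw [Submodule.Quotient.mk_smul, ← Submodule.mkQ_apply, hv, ← map_smul,
            ← Submodule.Quotient.mk_smul, show r • (1 : R) = r from mul_one r, hr, LinearEquiv.apply_symm_apply]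
        rw [← sub_add_cancel t (r • v), add_comm]
        exact Submodule.add_mem_sup ⟨r, rfl⟩ ((Submodule.Quotient.eq _).1 h1.symm)
    refine ⟨(LinearEquiv.ofBijective _ ⟨?_, LinearMap.range_eq_top.1 hspan⟩).symm⟩
    rw [injective_iff_map_eq_zero]
    intro r hr
    refine ((pair_self hR hn eK).scalars hf n LinearMap.id Function.surjective_id).2 r fun w => ?_
    obtain ⟨s, rfl⟩ := LinearMap.range_eq_top.1 hspan w
    rw [← map_smul, smul_eq_mul, mul_comm, ← smul_eq_mul, map_smul, hr, smul_zero]
  · rintro ⟨e⟩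
    refine (isGorenstein_iff R).2 ⟨n + 1, injLT_of_residueField fun i hi => extZ_of_equiv e ?_⟩
    exact extZ_residueField hR hn hf eK (by omega)

end Ring

theorem ext_residueField_shift : ∀ (rs : List R) (M : Type u) [AddCommGroup M] [Module R M]
    [Module.Finite R M], (∀ r ∈ rs, r ∈ maximalIdeal R) → IsWeaklyRegular M rs →
    Nonempty (GrothGr.ExtQ (maximalIdeal R) M rs.length ≃ₗ[R]
      LocCoh.torsionBy (maximalIdeal R) (M ⧸ (Ideal.ofList rs • ⊤ : Submodule R M))) := by
  intro rs
  induction rs with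
  | nil =>
    intro M _ _ _ _ _
    let eM : M ≃ₗ[R] M ⧸ (Ideal.ofList ([] : List R) • ⊤ : Submodule R M) :=
      (Submodule.quotEquivOfEqBot _ (by simp)).symm
    exact ⟨(GrothGr.extQZeroEquiv _ M).trans
      ((eM.ofSubmodules _ _ (torsionBy_map_equiv _ eM)))⟩
  | cons x rs ih =>
    intro M _ _ _ hmem h
    have hxm := hmem x (List.mem_cons_self ..)
    have hw := (isWeaklyRegular_cons_iff M x rs).1 h
    set q : M →ₗ[R] QuotSMulTop x M := (x • (⊤ : Submodule R M)).mkQ with hq
    set μ := LinearMap.lsmul R M x with hμ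
    have hex : Function.Exact μ q := fun v => by
      rw [hq, Submodule.mkQ_apply, Submodule.Quotient.mk_eq_zero,
        Submodule.mem_smul_pointwise_iff_exists]
      simp [hμ]
    have hS := seqCx_shortExact μ q hex hw.1 (Submodule.mkQ_surjective _)
    let k := ModuleCat.of R (R ⧸ maximalIdeal R)
    let δ : GrothGr.ExtQ (maximalIdeal R) (QuotSMulTop x M) rs.length →ₗ[R]
        GrothGr.ExtQ (maximalIdeal R) M (rs.length + 1) :=
      hS.extClass.postcompOfLinear R k rfl
    have hzero : Subsingleton (Abelian.Ext k (ModuleCat.of R M) rs.length) := by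
      by_cases hM : maximalIdeal R • (⊤ : Submodule R M) = ⊤
      · refine ext_subsingleton_of_le_idealDepth (I := maximalIdeal R) (n := rs.length + 1)
          (ModuleCat.of R M) k ?_ ?_ (Nat.lt_succ_self _)
        · exact residue_killed
        · rw [idealDepth_eq_top_of_smul_top_eq_top hM]; exact le_top
      · exact ext_subsingleton_of_le_idealDepth (I := maximalIdeal R) (n := rs.length + 1)
          (ModuleCat.of R M) k residue_killed
          ((le_idealDepth_iff_exists _ hM _).2 ⟨x :: rs, rfl, h, hmem⟩) (Nat.lt_succ_self _)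
    have hinj : Function.Injective δ := by
      rw [injective_iff_map_eq_zero]
      intro y hy
      obtain ⟨z, rfl⟩ := Abelian.Ext.covariant_sequence_exact₃ k hS y rfl hy
      rw [Subsingleton.elim (h := hzero) z 0, Abelian.Ext.zero_comp]
    have hsurj : Function.Surjective δ := fun y => by
      refine Abelian.Ext.covariant_sequence_exact₁ k hS y ?_ rfl
      have hμ' : (seqCx μ q hex).f = x • 𝟙 (ModuleCat.of R M) := by
        ext v
        rfl
      have hk0 : (x • 𝟙 k) = 0 := by
        refine ModuleCat.hom_ext (LinearMap.ext fun v => ?_)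
        exact Module.mem_annihilator.1
          (show x ∈ Module.annihilator R (R ⧸ maximalIdeal R) by rwa [Ideal.annihilator_quotient]) v
      rw [hμ', Abelian.Ext.mk₀_smul, Abelian.Ext.comp_smul, Abelian.Ext.comp_mk₀_id,
        ← Abelian.Ext.mk₀_id_comp y, ← Abelian.Ext.smul_comp, ← Abelian.Ext.mk₀_smul, hk0,
        Abelian.Ext.mk₀_zero, Abelian.Ext.zero_comp]
    obtain ⟨e⟩ := ih (QuotSMulTop x M) (fun r hr => hmem r (List.mem_cons_of_mem _ hr)) hw.2
    let eM := (Submodule.quotOfListConsSMulTopEquivQuotSMulTopInner M x rs).symm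
    exact ⟨(LinearEquiv.ofBijective δ ⟨hinj, hsurj⟩).symm.trans (e.trans
      (eM.ofSubmodules _ _ (torsionBy_map_equiv _ eM)))⟩

/-- The type of `R` is the number of generators of `K`. -/
theorem type_eq (hf : IsInjectiveHull f) {n : ℕ} (hR : LocCoh.IsCohenMacaulayLocalRing R) (hn : ringKrullDim R = n)
    {K : Type u} [AddCommGroup K] [Module R K] [Module.Finite R K]
    (eK : (K →ₗ[R] E) ≃ₗ[R] LocCoh.H (maximalIdeal R) n R) :
    GrLC.bassNumLocal R R n =
      Module.length R (K ⧸ (maximalIdeal R • ⊤ : Submodule R K)) := by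
  obtain ⟨rs, hlen, hrs, hmem⟩ := exists_regular_list hR hn
  obtain ⟨-, PK⟩ := ((pair_self hR hn eK).weakly_iff hf rs hmem).2 hrs
  rw [hlen, Nat.sub_self] at PK
  obtain ⟨e⟩ := PK.zero_equiv
  obtain ⟨e1⟩ := ext_residueField_shift rs R hmem hrs
  rw [hlen] at e1
  set S : Submodule R K := Ideal.ofList rs • ⊤
  set T : Submodule R K := maximalIdeal R • ⊤
  have hle : S ≤ T := Submodule.smul_mono_left (Ideal.span_le.2 fun r hr => hmem r hr)
  let π : (K ⧸ S) →ₗ[R] K ⧸ T := Submodule.factor hle
  let a := LinearMap.lcomp R E π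
  have ha : Function.Injective a :=
    LinearMap.lcomp_injective_of_surjective π (Submodule.factor_surjective hle)
  have hrange : LinearMap.range a = LocCoh.torsionBy (maximalIdeal R) ((K ⧸ S) →ₗ[R] E) := by
    ext φ
    rw [Submodule.mem_torsionBySet_iff]
    constructor
    · rintro ⟨ψ, rfl⟩ ⟨r, hr⟩
      refine LinearMap.ext fun v => ?_
      obtain ⟨v, rfl⟩ := Submodule.mkQ_surjective _ v
      show r • ψ (π (S.mkQ v)) = 0
      rw [← map_smul]
      refine (congrArg ψ ?_).trans (map_zero ψ)
      show r • T.mkQ v = 0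
      rw [← map_smul]
      exact (Submodule.Quotient.mk_eq_zero T).2 (Submodule.smul_mem_smul hr Submodule.mem_top)
    · intro h
      have hk : T ≤ LinearMap.ker (φ ∘ₗ S.mkQ) := Submodule.smul_le.2 fun r hr v _ => by
        rw [LinearMap.mem_ker, map_smul]
        exact LinearMap.congr_fun (h ⟨r, hr⟩) _
      refine ⟨T.liftQ _ hk, LinearMap.ext fun v => ?_⟩
      obtain ⟨v, rfl⟩ := Submodule.mkQ_surjective _ v
      rfl
  have hfl : IsFiniteLength R (K ⧸ T) := isFiniteLength_of_pow_killed _ 1 fun b hb w => by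
    obtain ⟨v, rfl⟩ := Submodule.mkQ_surjective _ w
    rw [← map_smul]
    exact (Submodule.Quotient.mk_eq_zero T).2
      (Submodule.smul_mem_smul (pow_one (maximalIdeal R) ▸ hb) Submodule.mem_top)
  rw [← GrothMatlis.length_dual hf hfl,
    ((LinearEquiv.ofInjective a ha).trans (LinearEquiv.ofEq _ _ hrange)).length_eq,
    (e.ofSubmodules _ _ (torsionBy_map_equiv _ e)).length_eq]
  exact e1.length_eq

end Groth.CanMod
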