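import Groth.Agent.CanMod.Duality
import Groth.Prelude.Def_GrLC2
import Groth.Agent.LocCohBase.CM
import Groth.Agent.Matlis.Duality
import Mathlib.RingTheory.Regular.RegularSequence

/-!
Regular sequences, depth, injective dimension and type of a finite module whose Matlis dual is the
top local cohomology of a Cohen–Macaulay local ring.
-/

set_option autoImplicit false
universe u

open CategoryTheory IsLocalRing InjHull GrothGoren Groth.LocCohBase Groth.LocDual RingTheory.Sequence
open scoped Pointwise

namespace Groth.CanMod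

variable {R : Type u} [CommRing R] [IsLocalRing R]
  {E : Type u} [AddCommGroup E] [Module R E] {f : ResidueField R →ₗ[R] E}

theorem eq_zero_of_forall_dual (hf : IsInjectiveHull f) {X : Type u} [AddCommGroup X] [Module R X]
    {x : X} (h : ∀ φ : X →ₗ[R] E, φ x = 0) : x = 0 := by
  by_contra hx
  obtain ⟨φ, hφ⟩ := GrothMatlis.exists_dual_ne_zero hf hx
  exact hφ (h φ)

theorem subsingleton_of_dual (hf : IsInjectiveHull f) (X : Type u) [AddCommGroup X] [Module R X]
    (h : Subsingleton (X →ₗ[R] E)) : Subsingleton X :=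
  subsingleton_of_forall_eq 0 fun x => eq_zero_of_forall_dual hf fun φ => by
    rw [Subsingleton.elim φ 0]; rfl

theorem isSMulRegular_iff_surjective (hf : IsInjectiveHull f) {N : Type u} [AddCommGroup N]
    [Module R N] (x : R) :
    IsSMulRegular N x ↔ Function.Surjective (fun φ : N →ₗ[R] E => x • φ) := by
  constructor
  · intro hx φ
    obtain ⟨ψ, hψ⟩ := hf.isInjective.out (LinearMap.lsmul R N x) hx φ
    exact ⟨ψ, LinearMap.ext fun v => (map_smul ψ x v).symm.trans (hψ v)⟩
  · intro hs
    refine IsSMulRegular.of_right_eq_zero_of_smul fun v hv => eq_zero_of_forall_dual hf fun φ => ?_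
    obtain ⟨ψ, rfl⟩ := hs φ
    show x • ψ v = 0
    rw [← map_smul, hv, map_zero]

/-- `M` is Cohen–Macaulay of dimension `d` and `N` has Matlis dual `H^d_m(M)`. -/
structure Pair (R : Type u) [CommRing R] [IsLocalRing R] (E : Type u) [AddCommGroup E] [Module R E] (d : ℕ) (M N : Type u) [AddCommGroup M]
    [Module R M] [AddCommGroup N] [Module R N] : Prop where
  cm : LocCoh.IsCohenMacaulayModule R M
  dim : Module.supportDim R M = d
  van : ∀ i, i < d → Subsingleton (Hm (A := R) i M)
  dual : Nonempty ((N →ₗ[R] E) ≃ₗ[R] Hm (A := R) d M)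

variable [IsNoetherianRing R] {d : ℕ} {M N : Type u} [AddCommGroup M] [Module R M]
  [Module.Finite R M] [AddCommGroup N] [Module R N]

omit [IsNoetherianRing R] [Module.Finite R M] in
theorem hm_map_smul (i : ℕ) (x : R) (h : Hm (A := R) i M) :
    Hmap i (LinearMap.lsmul R M x) h = x • h := by
  rw [show LinearMap.lsmul R M x = x • LinearMap.id from rfl, Hmap_smul, Hmap_id]

theorem Pair.nontrivial (P : Pair R E d M N) : Nontrivial N := by
  haveI := nontrivial_of_CM P.cm
  haveI := nontrivial_H_supportDim M d P.dim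
  obtain ⟨e⟩ := P.dual
  by_contra h
  rw [not_nontrivial_iff_subsingleton] at h
  haveI : Subsingleton (N →ₗ[R] E) := ⟨fun a b => LinearMap.ext fun v => by
    rw [Subsingleton.elim v 0, map_zero, map_zero]⟩
  exact not_subsingleton (Hm (A := R) d M) e.symm.toEquiv.subsingleton

/-- A zero divisor on `M` is a zero divisor on `N`. -/
theorem Pair.regular_of_regular (hf : IsInjectiveHull f) (P : Pair R E d M N) {x : R}
    (hx : IsSMulRegular N x) : IsSMulRegular M x := by
  by_contra hxM
  obtain ⟨p, hp, hxp⟩ : ∃ p ∈ associatedPrimes R M, x ∈ p := by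
    have : x ∈ ⋃ p ∈ associatedPrimes R M, (p : Set R) := by
      rw [biUnion_associatedPrimes_eq_compl_regular]
      exact hxM
    simpa using this
  haveI := nontrivial_of_CM P.cm
  have hdimp := ringKrullDim_quotient_eq_of_CM P.cm hp
  rw [P.dim] at hdimp
  haveI : p.IsPrime := hp.isPrime
  let S : Submodule R M := p • ⊤
  have hann : Module.annihilator R M ≤ p :=
    le_of_eq_of_le Submodule.annihilator_top.symm (IsAssociatedPrime.annihilator_le hp)
  have hsupp : Module.support R (M ⧸ S) = PrimeSpectrum.zeroLocus (p : Set R) := by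
    rw [Module.support_quotient, Module.support_eq_zeroLocus, ← PrimeSpectrum.zeroLocus_union]
    refine Set.Subset.antisymm (PrimeSpectrum.zeroLocus_anti_mono Set.subset_union_right) ?_
    intro q hq
    rw [PrimeSpectrum.mem_zeroLocus] at hq ⊢
    exact Set.union_subset ((SetLike.coe_subset_coe.2 hann).trans hq) hq
  have hdim : Module.supportDim R (M ⧸ S) = d := by
    rw [Module.supportDim, hsupp, ← ringKrullDim_quotient, hdimp]
  haveI : Nontrivial (M ⧸ S) := by
    rw [← Module.supportDim_ne_bot_iff_nontrivial R, hdim]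
    exact WithBot.coe_ne_bot
  haveI := nontrivial_H_supportDim (M ⧸ S) d hdim
  obtain ⟨e⟩ := P.dual
  have hq : Function.Surjective (Hmap (A := R) d S.mkQ) := fun y => by
    have hS := seqCx_shortExact S.subtype S.mkQ (LinearMap.exact_subtype_mkQ S)
      S.injective_subtype S.mkQ_surjective
    haveI : Subsingleton (Hm (A := R) (d + 1) S) := by
      refine subsingleton_H_of_supportDim_lt _ S (lt_of_le_of_lt
        (Module.supportDim_le_of_injective S.subtype S.injective_subtype) ?_)
      rw [P.dim]
      exact_mod_cast Nat.lt_succ_self d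
    exact (exact₃ hS d y).1 (Subsingleton.elim _ _)
  refine not_subsingleton (Hm (A := R) d (M ⧸ S)) (subsingleton_of_forall_eq 0 fun y => ?_)
  obtain ⟨h, rfl⟩ := hq y
  obtain ⟨φ, hφ⟩ := (isSMulRegular_iff_surjective hf x).1 hx (e.symm h)
  have hh : x • e φ = h := by
    rw [← map_smul, show x • φ = e.symm h from hφ, LinearEquiv.apply_symm_apply]
  rw [← hh, ← hm_map_smul, ← Hmap_comp,
    show S.mkQ ∘ₗ LinearMap.lsmul R M x = 0 from LinearMap.ext fun v =>
      (Submodule.Quotient.mk_eq_zero S).2 (Submodule.smul_mem_smul hxp Submodule.mem_top),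
    Hmap_zero]

/-- Descent of a pair along a regular element. -/
theorem Pair.step (hf : IsInjectiveHull f) (P : Pair R E d M N) {x : R} (hxm : x ∈ maximalIdeal R)
    (hx : IsSMulRegular M x) :
    IsSMulRegular N x ∧ ∃ d', d = d' + 1 ∧ Pair R E d' (QuotSMulTop x M) (QuotSMulTop x N) := by
  haveI := nontrivial_of_CM P.cm
  have hcm := isCM_quotSMulTop P.cm hxm hx
  haveI := nontrivial_of_CM hcm
  have hsd := Module.supportDim_quotSMulTop_succ_eq_supportDim hx hxm
  rw [P.dim] at hsd
  obtain ⟨d', rfl⟩ : ∃ d', d = d' + 1 := by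
    rcases Nat.eq_zero_or_pos d with rfl | h
    · exfalso
      obtain ⟨k, hk⟩ := Groth.LocCohBase.exists_depth_eq (R := R) (QuotSMulTop x M)
      rw [show Module.supportDim R (QuotSMulTop x M) = _ from hcm, hk] at hsd
      change ((k + 1 : ℕ) : WithBot ℕ∞) = ((0 : ℕ) : WithBot ℕ∞) at hsd
      norm_cast at hsd
    · exact ⟨d - 1, by omega⟩
  have hdim' : Module.supportDim R (QuotSMulTop x M) = d' :=
    (ENat.WithBot.add_natCast_cancel (c := 1)).1 (by simpa using hsd)
  set q : M →ₗ[R] QuotSMulTop x M := (x • (⊤ : Submodule R M)).mkQ with hq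
  set μ := LinearMap.lsmul R M x with hμ
  have hex : Function.Exact μ q := fun v => by
    rw [hq, Submodule.mkQ_apply, Submodule.Quotient.mk_eq_zero,
      Submodule.mem_smul_pointwise_iff_exists]
    simp [hμ]
  have hS := seqCx_shortExact μ q hex hx (Submodule.mkQ_surjective _)
  have hsm : ∀ i (h : Hm (A := R) i M),
      (localCohomology (maximalIdeal R) i).map (seqCx μ q hex).f h = x • h :=
    fun i h => hm_map_smul i x h
  have hvan : ∀ i, i < d' → Subsingleton (Hm (A := R) i (QuotSMulTop x M)) := fun i hi =>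
    subsingleton_X₃ hS i (P.van i (by omega)) (P.van (i + 1) (by omega))
  obtain ⟨e⟩ := P.dual
  have hdiv : Function.Surjective (fun h : Hm (A := R) (d' + 1) M => x • h) := fun h => by
    haveI : Subsingleton (Hm (A := R) (d' + 1) (QuotSMulTop x M)) :=
      subsingleton_H_of_supportDim_lt _ _ (by rw [hdim']; exact_mod_cast Nat.lt_succ_self d')
    obtain ⟨h', rfl⟩ := (exact₂ hS (d' + 1) h).1 (Subsingleton.elim _ _)
    exact ⟨h', (hsm _ h').symm⟩
  refine ⟨(isSMulRegular_iff_surjective hf x).2 fun φ => ?_, d', rfl, hcm, hdim', hvan, ?_⟩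
  · obtain ⟨h, hh⟩ := hdiv (e φ)
    exact ⟨e.symm h, by simp only [] at hh ⊢; rw [← map_smul, hh, LinearEquiv.symm_apply_apply]⟩
  let qN : N →ₗ[R] QuotSMulTop x N := (x • (⊤ : Submodule R N)).mkQ
  let a : (QuotSMulTop x N →ₗ[R] E) →ₗ[R] Hm (A := R) (d' + 1) M :=
    e.toLinearMap ∘ₗ LinearMap.lcomp R E qN
  have ha : Function.Injective a := fun u v h =>
    LinearMap.lcomp_injective_of_surjective qN (Submodule.mkQ_surjective _) (e.injective h)
  let b : Hm (A := R) d' (QuotSMulTop x M) →ₗ[R] Hm (A := R) (d' + 1) M := δ hS d'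
  have hb : Function.Injective b := by
    rw [injective_iff_map_eq_zero]
    intro y hy
    obtain ⟨z, rfl⟩ := (exact₃ hS d' y).1 hy
    haveI := P.van d' (Nat.lt_succ_self d')
    rw [Subsingleton.elim (z : Hm (A := R) d' M) 0, map_zero]
  have hrange : LinearMap.range a = LinearMap.range b := by
    ext h
    have h1 : h ∈ LinearMap.range a ↔ x • h = 0 := by
      constructor
      · rintro ⟨φ, rfl⟩
        show x • e (φ ∘ₗ qN) = 0
        rw [← map_smul]
        refine (congrArg e (LinearMap.ext fun v => ?_)).trans (map_zero e)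
        show x • φ (qN v) = 0
        rw [← map_smul, ← map_smul qN, show qN (x • v) = 0 from (Submodule.Quotient.mk_eq_zero _).2
          (Submodule.smul_mem_pointwise_smul v x ⊤ Submodule.mem_top), map_zero]
      · intro h0
        have hk : x • (⊤ : Submodule R N) ≤ LinearMap.ker (e.symm h) := by
          intro w hw
          obtain ⟨v, -, rfl⟩ := (Submodule.mem_smul_pointwise_iff_exists _ _ _).1 hw
          rw [LinearMap.mem_ker, map_smul, ← LinearMap.smul_apply, ← map_smul, h0, map_zero,
            LinearMap.zero_apply]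
        refine ⟨(x • (⊤ : Submodule R N)).liftQ (e.symm h) hk, ?_⟩
        show e (((x • (⊤ : Submodule R N)).liftQ (e.symm h) hk) ∘ₗ qN) = h
        rw [show ((x • (⊤ : Submodule R N)).liftQ (e.symm h) hk) ∘ₗ qN = e.symm h from
          Submodule.liftQ_mkQ _ _ _, LinearEquiv.apply_symm_apply]
    rw [h1, ← hsm]
    exact exact₁ hS d' h
  exact ⟨(LinearEquiv.ofInjective a ha).trans ((LinearEquiv.ofEq _ _ hrange).trans
    (LinearEquiv.ofInjective b hb).symm)⟩

theorem Pair.weakly_iff (hf : IsInjectiveHull f) : ∀ (as : List R), (∀ a ∈ as, a ∈ maximalIdeal R) →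
    ∀ {d : ℕ} {M N : Type u} [AddCommGroup M] [Module R M] [Module.Finite R M] [AddCommGroup N]
      [Module R N], Pair R E d M N →
    (IsWeaklyRegular M as ↔ IsWeaklyRegular N as) ∧
      (IsWeaklyRegular M as → as.length ≤ d ∧ Pair R E (d - as.length)
        (M ⧸ (Ideal.ofList as • ⊤ : Submodule R M)) (N ⧸ (Ideal.ofList as • ⊤ : Submodule R N))) := by
  intro as
  induction as with
  | nil =>
    intro _ d M N _ _ _ _ _ P
    refine ⟨⟨fun _ => IsWeaklyRegular.nil R N, fun _ => IsWeaklyRegular.nil R M⟩,
      fun _ => ⟨Nat.zero_le _, ?_⟩⟩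
    have hM : (Ideal.ofList ([] : List R) • ⊤ : Submodule R M) = ⊥ := by simp
    have hN : (Ideal.ofList ([] : List R) • ⊤ : Submodule R N) = ⊥ := by simp
    let eM : M ≃ₗ[R] M ⧸ (Ideal.ofList ([] : List R) • ⊤ : Submodule R M) :=
      (Submodule.quotEquivOfEqBot _ hM).symm
    let eN : N ≃ₗ[R] N ⧸ (Ideal.ofList ([] : List R) • ⊤ : Submodule R N) :=
      (Submodule.quotEquivOfEqBot _ hN).symm
    obtain ⟨e⟩ := P.dual
    refine ⟨?_, ?_, fun i hi => ?_, ⟨(LinearEquiv.congrLeft (M := E) R eN).symm.trans (e.trans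
      ((localCohomology (maximalIdeal R) d).mapIso eM.toModuleIso).toLinearEquiv)⟩⟩
    · show Module.supportDim R _ = _
      rw [← Module.supportDim_eq_of_equiv eM, LocCoh.depth, ← idealDepth_congr eM]
      exact P.cm
    · rw [← Module.supportDim_eq_of_equiv eM]
      exact P.dim
    · exact (subsingleton_H_congr _ i eM).1 (P.van i hi)
  | cons x rs ih =>
    intro has d M N _ _ _ _ _ P
    have hxm := has x (List.mem_cons_self ..)
    have has' : ∀ a ∈ rs, a ∈ maximalIdeal R := fun a ha => has a (List.mem_cons_of_mem _ ha)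
    rw [isWeaklyRegular_cons_iff, isWeaklyRegular_cons_iff]
    by_cases hx : IsSMulRegular M x
    · obtain ⟨hxN, d', rfl, P'⟩ := P.step hf hxm hx
      obtain ⟨h1, h2⟩ := ih has' P'
      refine ⟨and_congr (iff_of_true hx hxN) h1, fun h => ?_⟩
      obtain ⟨hl, P''⟩ := h2 h.2
      refine ⟨by simpa using hl, ?_⟩
      let eM := Submodule.quotOfListConsSMulTopEquivQuotSMulTopInner M x rs
      let eN := Submodule.quotOfListConsSMulTopEquivQuotSMulTopInner N x rs
      rw [show d' + 1 - (x :: rs).length = d' - rs.length by simp]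
      obtain ⟨e⟩ := P''.dual
      refine ⟨?_, ?_, fun i hi => ?_, ⟨(LinearEquiv.congrLeft (M := E) R eN).trans (e.trans
        ((localCohomology (maximalIdeal R) _).mapIso eM.symm.toModuleIso).toLinearEquiv)⟩⟩
      · show Module.supportDim R _ = _
        rw [Module.supportDim_eq_of_equiv eM, LocCoh.depth, idealDepth_congr eM]
        exact P''.cm
      · rw [Module.supportDim_eq_of_equiv eM]
        exact P''.dim
      · exact (subsingleton_H_congr _ i eM).2 (P''.van i hi)
    · exact ⟨iff_of_false (fun h => hx h.1) (fun h => hx (P.regular_of_regular hf h.1)),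
        fun h => absurd h.1 hx⟩

section Ring

variable {n : ℕ} (hR : LocCoh.IsCohenMacaulayLocalRing R) (hn : ringKrullDim R = n)
  (hf : IsInjectiveHull f) {K : Type u} [AddCommGroup K] [Module R K]
  (eK : (K →ₗ[R] E) ≃ₗ[R] LocCoh.H (maximalIdeal R) n R)

include hR hn in
theorem depth_self : LocCoh.depth R R = n := by
  have h : Module.supportDim R R = _ := hR.supportDim_eq_depth
  rw [Module.supportDim_self_eq_ringKrullDim, hn] at h
  exact (WithBot.coe_inj.1 h).symm

include hR hn in
theorem van_self (i : ℕ) (hi : i < n) : Subsingleton (Hm (A := R) i R) :=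
  (le_idealDepth_iff_localCohomology (maximalIdeal R) n R).1 (le_of_eq (depth_self hR hn).symm) i hi

include hR hn eK in
theorem pair_self : Pair R E n R K where
  cm := hR.supportDim_eq_depth
  dim := (Module.supportDim_self_eq_ringKrullDim (R := R)).trans hn
  van := van_self hR hn
  dual := ⟨eK⟩

include hR hn in
theorem exists_regular_list : ∃ rs : List R, rs.length = n ∧ IsWeaklyRegular R rs ∧
    ∀ r ∈ rs, r ∈ maximalIdeal R :=
  (le_idealDepth_iff_exists _
    (smul_maximalIdeal_ne_top R (maximalIdeal.isMaximal R).ne_top) n).1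
    (le_of_eq (depth_self hR hn).symm)

include hR hn hf eK in
theorem isRegular_iff [Module.Finite R K] (as : List R) (has : ∀ a ∈ as, a ∈ maximalIdeal R) :
    IsRegular R as ↔ IsRegular K as := by
  have P := pair_self hR hn eK
  haveI := P.nontrivial
  exact ⟨fun h => isRegular_of_isWeaklyRegular_of_mem
      (smul_maximalIdeal_ne_top K (maximalIdeal.isMaximal R).ne_top)
      ((P.weakly_iff hf as has).1.1 h.1) has,
    fun h => isRegular_of_isWeaklyRegular_of_mem
      (smul_maximalIdeal_ne_top R (maximalIdeal.isMaximal R).ne_top)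
      ((P.weakly_iff hf as has).1.2 h.1) has⟩

include hR hn hf eK in
theorem nonempty_quotient_dual (as : List R) (has : ∀ a ∈ as, a ∈ maximalIdeal R)
    (h : IsWeaklyRegular R as) :
    Nonempty (((K ⧸ (Ideal.ofList as • ⊤ : Submodule R K)) →ₗ[R] E) ≃ₗ[R]
      LocCoh.H (maximalIdeal R) (n - as.length) (R ⧸ Ideal.ofList as)) := by
  obtain ⟨e⟩ := ((pair_self hR hn eK).weakly_iff hf as has).2 h |>.2.dual
  let eq : (R ⧸ (Ideal.ofList as • ⊤ : Submodule R R)) ≃ₗ[R] R ⧸ Ideal.ofList as :=
    Submodule.quotEquivOfEq _ _ (by rw [smul_eq_mul, Ideal.mul_top])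
  exact ⟨e.trans ((localCohomology (maximalIdeal R) _).mapIso eq.toModuleIso).toLinearEquiv⟩

include hR hn hf eK in
theorem cm_and_dim [Module.Finite R K] :
    LocCoh.IsCohenMacaulayModule R K ∧ Module.supportDim R K = n := by
  have P := pair_self hR hn eK
  haveI := P.nontrivial
  obtain ⟨rs, hlen, hrs, hmem⟩ := exists_regular_list hR hn
  have h1 : (n : ℕ∞) ≤ LocCoh.depth R K := (le_idealDepth_iff_exists _
    (smul_maximalIdeal_ne_top K (maximalIdeal.isMaximal R).ne_top) n).2
      ⟨rs, hlen, (P.weakly_iff hf rs hmem).1.1 hrs, hmem⟩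
  have h2 := depth_le_supportDim (R := R) K
  have h3 : Module.supportDim R K ≤ n := (Module.supportDim_le_ringKrullDim R K).trans_eq hn
  have h1' : ((n : ℕ) : WithBot ℕ∞) ≤ ((LocCoh.depth R K : ℕ∞) : WithBot ℕ∞) :=
    WithBot.coe_le_coe.2 h1
  exact ⟨le_antisymm (h3.trans h1') h2, le_antisymm h3 (h1'.trans h2)⟩

include hR hn hf eK in
/-- Local duality with the canonical module. -/
theorem nonempty_duality' [Module.Finite R K] (M : Type u) [AddCommGroup M] [Module R M]
    [Module.Finite R M] {i j : ℕ} (hij : i + j = n) :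
    Nonempty (Hm (A := R) i M ≃ₗ[R]
      (Abelian.Ext (ModuleCat.of R M) (ModuleCat.of R K) j →ₗ[R] E)) :=
  nonempty_duality hn (van_self hR hn) hf.isInjective eK.symm.toLinearMap eK.symm.bijective j M i hij

omit [IsNoetherianRing R] in
theorem isPowerTorsion_residue : LocCoh.IsPowerTorsion (maximalIdeal R) (ResidueField R) :=
  fun m => ⟨1, fun r hr => GrothMatlis.smul_residueField_eq_zero (pow_one (maximalIdeal R) ▸ hr) m⟩

include hR hn hf eK in
theorem extZ_residueField [Module.Finite R K] {j : ℕ} (hj : j ≠ n) :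
    ExtZ R (ResidueField R) K j := by
  rcases Nat.lt_or_ge j n with h | h
  · obtain ⟨e⟩ := nonempty_duality' hR hn hf eK (ResidueField R) (i := n - j) (j := j) (by omega)
    obtain ⟨k, hk⟩ : ∃ k, n - j = k + 1 := ⟨n - j - 1, by omega⟩
    rw [hk] at e
    haveI : Subsingleton (Hm (A := R) (k + 1) (ResidueField R)) :=
      subsingleton_succ_of_isPowerTorsion _ k _ isPowerTorsion_residue
    exact subsingleton_of_dual hf _ e.symm.toEquiv.subsingleton
  · obtain ⟨k, rfl⟩ : ∃ k, j = n + k + 1 := ⟨j - n - 1, by omega⟩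
    suffices H : InjLT R K (n + 1) from H.extZ _ (by omega)
    refine injLT_of_forall_cyclic n K fun I => ?_
    cases n with
    | zero =>
      haveI : Module.Injective R K := by
        haveI : Ring.KrullDimLE 0 R := Ring.krullDimLE_iff.2 (le_of_eq hn)
        haveI : IsArtinianRing R :=
          isArtinianRing_iff_isNoetherianRing_krullDimLE_zero.2 ⟨inferInstance, inferInstance⟩
        let e0 : LocCoh.H (maximalIdeal R) 0 R ≃ₗ[R] R := (h0Equiv (maximalIdeal R) R).trans
          (LinearEquiv.ofTop _ (torsionSub_eq_top (GrothMatlis.isPowerTorsion_of_isArtinian R)))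
        exact GrothMatlis.injective_of_equiv hf.isInjective
          ((LinearEquiv.ofBijective _ (GrothMatlis.applyₗ_bijective_of_isFiniteLength hf
            (GrothMatlis.isFiniteLength_of_killed R K))).trans
            ((LinearEquiv.congrLeft (M := E) R (eK.trans e0)).trans
              (LinearMap.ringLmapEquivSelf R R E)))
      exact extZ_of_injective
    | succ m =>
      let q : R →ₗ[R] R ⧸ I := Submodule.mkQ I
      have hS := seqCx_shortExact (Submodule.subtype I) q (LinearMap.exact_subtype_mkQ I)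
        (Submodule.injective_subtype I) (Submodule.mkQ_surjective I)
      obtain ⟨e⟩ := nonempty_duality' hR hn hf eK I (i := 0) (j := m + 1) (by omega)
      haveI : Subsingleton (Hm (A := R) 0 I) :=
        subsingleton_X₁_zero hS (van_self hR hn 0 (by omega))
      have hI : ExtZ R I K (m + 1) := subsingleton_of_dual hf _ e.symm.toEquiv.subsingleton
      refine subsingleton_of_forall_eq 0 fun y => ?_
      obtain ⟨z, rfl⟩ := Abelian.Ext.contravariant_sequence_exact₃ hS (ModuleCat.of R K) y
        (Subsingleton.elim (h := extZ_of_projective) _ _) (Nat.add_comm 1 (m + 1))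
      rw [Subsingleton.elim (h := hI) z 0, Abelian.Ext.comp_zero]

include hR hn hf eK in
theorem bassNumLocal_eq_one [Module.Finite R K] : GrLC.bassNumLocal R K n = 1 := by
  obtain ⟨e⟩ := nonempty_duality' hR hn hf eK (ResidueField R) (i := 0) (j := n) (zero_add n)
  let e0 : Hm (A := R) 0 (ResidueField R) ≃ₗ[R] ResidueField R :=
    (h0Equiv (maximalIdeal R) _).trans
      (LinearEquiv.ofTop _ (torsionSub_eq_top isPowerTorsion_residue))
  set X := Abelian.Ext (ModuleCat.of R (ResidueField R)) (ModuleCat.of R K) n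
  haveI := GrothMatlis.isSimpleModule_residueField R
  have hfl : IsFiniteLength R (ResidueField R) :=
    Module.length_ne_top_iff.1 (by rw [Module.length_eq_one]; exact ENat.one_ne_top)
  have h1 : Module.length R X ≤ 1 := by
    refine (Module.length_le_of_injective _ (GrothMatlis.applyₗ_injective hf X)).trans ?_
    rw [(LinearEquiv.congrLeft (M := E) R (e0.symm.trans e)).length_eq.symm,
      GrothMatlis.length_dual hf hfl, Module.length_eq_one]
  have h2 : Module.length R X ≠ 0 := fun h0 => by
    haveI := Module.length_eq_zero_iff.1 h0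
    haveI : Subsingleton (X →ₗ[R] E) := ⟨fun a b => LinearMap.ext fun v => by
      rw [Subsingleton.elim v 0, map_zero, map_zero]⟩
    exact not_subsingleton (ResidueField R) (e0.symm.trans e).toEquiv.subsingleton
  exact le_antisymm h1 (ENat.one_le_iff_ne_zero.2 h2)

end Ring

end Groth.CanMod
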