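import Groth.Agent.LocDual.Duality

/-!
Local duality with respect to a finite module `W` whose Matlis dual is the top local cohomology.
-/

set_option autoImplicit false
universe u

open CategoryTheory IsLocalRing GrothGoren Groth.LocCohBase Groth.LocCohTransform Groth.LocDual Opposite

namespace Groth.CanMod

variable {A : Type u} [CommRing A] [IsLocalRing A]
variable {M N : Type u} [AddCommGroup M] [Module A M] [AddCommGroup N] [Module A N]
variable {W : Type u} [AddCommGroup W] [Module A W] {E : Type u} [AddCommGroup E] [Module A E]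

/-- The trace `H^r_m(W) → E`. -/
theorem exists_trace [IsNoetherianRing A] {r : ℕ} (hdim : ringKrullDim A = r) [Module.Finite A W]
    (e : Hm (A := A) r A →ₗ[A] (W →ₗ[A] E)) :
    ∃ t : Hm (A := A) r W →ₗ[A] E,
      ∀ h w, t (Hmap r (LinearMap.toSpanSingleton A W w) h) = e h w := by
  classical
  obtain ⟨n, g, hg⟩ := Module.Finite.exists_fin' A W
  let inc := (LinearMap.ker g).subtype
  have hS := seqCx_shortExact inc g (LinearMap.exact_subtype_ker_map g)
    (Submodule.injective_subtype _) hg
  let t' : Hm (A := A) r (Fin n → A) →ₗ[A] E :=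
    ∑ j, (e.flip (g (Pi.single j 1))) ∘ₗ Hmap r (LinearMap.proj j)
  have key : ∀ (v : Fin n → A) h, t' (Hmap r (LinearMap.toSpanSingleton A _ v) h) = e h (g v) := by
    intro v h
    have hj : ∀ j, Hmap r ((LinearMap.proj j : (Fin n → A) →ₗ[A] A) ∘ₗ
        LinearMap.toSpanSingleton A _ v) h = v j • h := fun j => by
      rw [show ((LinearMap.proj j : (Fin n → A) →ₗ[A] A) ∘ₗ LinearMap.toSpanSingleton A _ v) =
        v j • LinearMap.id from LinearMap.ext_ring (by simp), Hmap_smul, Hmap_id]
    simp only [t', LinearMap.sum_apply, LinearMap.comp_apply, LinearMap.flip_apply, ← Hmap_comp, hj,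
      map_smul, LinearMap.smul_apply]
    conv_rhs => rw [pi_eq_sum_univ' v, map_sum, map_sum]
    simp only [map_smul]
  have hle : LinearMap.ker (Hmap r g) ≤ LinearMap.ker t' := by
    intro x hx
    obtain ⟨y, rfl⟩ := (exact₂ hS r x).1 hx
    obtain ⟨p, q, hq⟩ := Module.Finite.exists_fin' A (LinearMap.ker g)
    obtain ⟨y', rfl⟩ := Hmap_surjective hdim hq y
    have hid : ∑ j, LinearMap.single A (fun _ : Fin p => A) j ∘ₗ LinearMap.proj j =
        (LinearMap.id : (Fin p → A) →ₗ[A] (Fin p → A)) :=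
      LinearMap.ext fun v => funext fun k => by
        simp [LinearMap.sum_apply, Finset.sum_apply, Pi.single_apply]
    show t' (Hmap r inc (Hmap r q y')) = 0
    rw [← Hmap_id r y', ← hid, Hmap_sum, map_sum, map_sum, map_sum]
    refine Finset.sum_eq_zero fun j _ => ?_
    rw [Hmap_comp, ← Hmap_comp r _ q, ← Hmap_comp r _ inc,
      show inc ∘ₗ q ∘ₗ LinearMap.single A (fun _ : Fin p => A) j =
        LinearMap.toSpanSingleton A _ (q (Pi.single j 1) : Fin n → A) from
        LinearMap.ext_ring (by simp [inc]), key,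
      show g (q (Pi.single j 1) : Fin n → A) = 0 from LinearMap.mem_ker.1 (q _).2, map_zero]
  let qe := (Hmap r g).quotKerEquivOfSurjective (Hmap_surjective hdim hg)
  refine ⟨(LinearMap.ker (Hmap r g)).liftQ t' hle ∘ₗ qe.symm.toLinearMap, fun h w => ?_⟩
  obtain ⟨v, rfl⟩ := hg w
  rw [show LinearMap.toSpanSingleton A W (g v) = g ∘ₗ LinearMap.toSpanSingleton A _ v from
    LinearMap.ext_ring (by simp), Hmap_comp]
  show (LinearMap.ker (Hmap r g)).liftQ t' hle (qe.symm (Hmap r g _)) = _
  rw [show qe.symm (Hmap r g (Hmap r (LinearMap.toSpanSingleton A _ v) h)) =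
    Submodule.Quotient.mk (Hmap r (LinearMap.toSpanSingleton A _ v) h) from qe.symm_apply_eq.2 rfl]
  exact key v h

section Pairing

variable (r : ℕ) (e : Hm (A := A) r A →ₗ[A] (W →ₗ[A] E)) (t : Hm (A := A) r W →ₗ[A] E)
  (ht : ∀ h w, t (Hmap r (LinearMap.toSpanSingleton A W w) h) = e h w)

/-- The pairing `H^r_m(M) → Hom(Hom(M,W),E)`. -/
noncomputable def Θ (M : Type u) [AddCommGroup M] [Module A M] :
    Hm (A := A) r M →ₗ[A] ((M →ₗ[A] W) →ₗ[A] E) :=
  LinearMap.mk₂ A (fun x φ => t (Hmap r φ x))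
    (fun x y φ => by simp) (fun a x φ => by simp)
    (fun x φ ψ => by rw [Hmap_add, map_add])
    (fun a x φ => by rw [Hmap_smul, map_smul])

lemma Θ_apply (x : Hm (A := A) r M) (φ : M →ₗ[A] W) : Θ r t M x φ = t (Hmap r φ x) := rfl

lemma Θ_natural (g : M →ₗ[A] N) (x : Hm (A := A) r M) (φ : N →ₗ[A] W) :
    Θ r t N (Hmap r g x) φ = Θ r t M x (φ ∘ₗ g) := by
  rw [Θ_apply, Θ_apply, Hmap_comp]

include ht in
lemma Θ_bijective_pi (he : Function.Bijective e) (n : ℕ) :
    Function.Bijective (Θ r t (Fin n → A)) := by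
  classical
  have hid : ∑ j, LinearMap.single A (fun _ : Fin n => A) j ∘ₗ LinearMap.proj j =
      (LinearMap.id : (Fin n → A) →ₗ[A] (Fin n → A)) :=
    LinearMap.ext fun v => funext fun k => by
      simp [LinearMap.sum_apply, Finset.sum_apply, Pi.single_apply]
  constructor
  · rw [injective_iff_map_eq_zero]
    intro x hx
    rw [← Hmap_id r x, ← hid, Hmap_sum]
    refine Finset.sum_eq_zero fun j _ => ?_
    rw [Hmap_comp]
    have h0 : Hmap r (LinearMap.proj (R := A) (φ := fun _ : Fin n => A) j) x = 0 := by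
      refine he.1 (LinearMap.ext fun w => ?_)
      rw [map_zero, LinearMap.zero_apply, ← ht, ← Hmap_comp, ← Θ_apply, hx, LinearMap.zero_apply]
    rw [h0, map_zero]
  · intro ψ
    choose y hy using fun j : Fin n => he.2
      (ψ ∘ₗ LinearMap.smulRightₗ (LinearMap.proj (R := A) (φ := fun _ : Fin n => A) j))
    refine ⟨∑ j, Hmap r (LinearMap.single A (fun _ : Fin n => A) j) (y j), LinearMap.ext fun φ => ?_⟩
    have hφ : φ = ∑ j, LinearMap.toSpanSingleton A W (φ (Pi.single j 1)) ∘ₗ LinearMap.proj j := by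
      refine LinearMap.ext fun v => ?_
      conv_lhs => rw [pi_eq_sum_univ' v, map_sum]
      simp [LinearMap.sum_apply]
    rw [map_sum, LinearMap.sum_apply]
    conv_rhs => rw [hφ, map_sum]
    refine Finset.sum_congr rfl fun j _ => ?_
    rw [Θ_natural, Θ_apply,
      show φ ∘ₗ LinearMap.single A (fun _ : Fin n => A) j =
        LinearMap.toSpanSingleton A W (φ (Pi.single j 1)) from LinearMap.ext_ring (by simp),
      ht, hy]
    show ψ _ = ψ _
    congr 1

end Pairing

section Finite

variable [IsNoetherianRing A] {r : ℕ}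
  (hdim : ringKrullDim A = r) (hE : Module.Injective A E)
  (e : Hm (A := A) r A →ₗ[A] (W →ₗ[A] E)) (t : Hm (A := A) r W →ₗ[A] E)
  (ht : ∀ h w, t (Hmap r (LinearMap.toSpanSingleton A W w) h) = e h w)
  (he : Function.Bijective e)

include hdim hE ht he in
theorem Θ_surjective (M : Type u) [AddCommGroup M] [Module A M] [Module.Finite A M] :
    Function.Surjective (Θ r t M) := by
  obtain ⟨n, g, hg⟩ := Module.Finite.exists_fin' A M
  intro ψ
  obtain ⟨ψ', hψ'⟩ := hE.out (LinearMap.lcomp A W g)
    (LinearMap.lcomp_injective_of_surjective g hg) ψ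
  obtain ⟨x, hx⟩ := (Θ_bijective_pi r e t ht he n).2 ψ'
  refine ⟨Hmap r g x, LinearMap.ext fun φ => ?_⟩
  rw [Θ_natural, hx]
  exact hψ' φ

include hdim hE ht he in
theorem Θ_bijective (M : Type u) [AddCommGroup M] [Module A M] [Module.Finite A M] :
    Function.Bijective (Θ r t M) := by
  refine ⟨?_, Θ_surjective hdim hE e t ht he M⟩
  obtain ⟨n, g, hg⟩ := Module.Finite.exists_fin' A M
  rw [injective_iff_map_eq_zero]
  intro x hx
  obtain ⟨x', rfl⟩ := Hmap_surjective hdim hg x
  set inc := (LinearMap.ker g).subtype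
  set res := LinearMap.lcomp A W inc
  -- `Θ x'` only depends on the restriction to the kernel
  have hker : LinearMap.ker res ≤ LinearMap.ker (Θ r t _ x') := by
    intro φ hφ
    have hle : LinearMap.ker g ≤ LinearMap.ker φ := fun v hv =>
      LinearMap.congr_fun (show res φ = 0 from hφ) ⟨v, hv⟩
    obtain ⟨φ', hφ'⟩ : ∃ φ' : M →ₗ[A] W, φ' ∘ₗ g = φ := by
      refine ⟨(LinearMap.ker g).liftQ φ hle ∘ₗ
        (g.quotKerEquivOfSurjective hg).symm.toLinearMap, LinearMap.ext fun v => ?_⟩
      show (LinearMap.ker g).liftQ φ hle ((g.quotKerEquivOfSurjective hg).symm (g v)) = φ v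
      rw [show (g.quotKerEquivOfSurjective hg).symm (g v) = Submodule.Quotient.mk v from
        (g.quotKerEquivOfSurjective hg).symm_apply_eq.2 rfl]
      rfl
    rw [LinearMap.mem_ker, ← hφ', ← Θ_natural, hx, LinearMap.zero_apply]
  have hqinj : Function.Injective ((LinearMap.ker res).liftQ res le_rfl) := by
    rw [← LinearMap.ker_eq_bot]
    exact Submodule.ker_liftQ_eq_bot _ _ _ le_rfl
  obtain ⟨ψ, hψ⟩ := (GrothMatlis.baer hE).extension_property
    ((LinearMap.ker res).liftQ res le_rfl) hqinj ((LinearMap.ker res).liftQ _ hker)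
  obtain ⟨y, hy⟩ := Θ_surjective hdim hE e t ht he (LinearMap.ker g) ψ
  have h1 : Hmap r inc y = x' := (Θ_bijective_pi r e t ht he n).1 <| LinearMap.ext fun φ => by
    rw [Θ_natural, hy]
    exact LinearMap.congr_fun hψ (Submodule.Quotient.mk φ)
  rw [← h1, ← Hmap_comp, show g ∘ₗ inc = 0 from g.comp_ker_subtype, Hmap_zero]

end Finite

section Shift

omit [IsLocalRing A]

variable {M K F : Type u} [AddCommGroup M] [Module A M] [AddCommGroup K] [Module A K]
  [AddCommGroup F] [Module A F] {W : Type u} [AddCommGroup W] [Module A W] {inc : K →ₗ[A] F} {g : F →ₗ[A] M}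
  (hex : Function.Exact inc g) (hinc : Function.Injective inc) (hg : Function.Surjective g)

/-- The connecting map `Ext^j(K,A) → Ext^(j+1)(M,A)`. -/
noncomputable def wShift (j : ℕ) :
    Abelian.Ext (ModuleCat.of A K) (ModuleCat.of A W) j →ₗ[A]
      Abelian.Ext (ModuleCat.of A M) (ModuleCat.of A W) (j + 1) :=
  (seqCx_shortExact inc g hex hinc hg).extClass.precompOfLinear A _ (Nat.add_comm 1 j)

/-- The connecting map `Hom(K,A) → Ext^1(M,A)`. -/
noncomputable def wShift₀ :
    (K →ₗ[A] W) →ₗ[A] Abelian.Ext (ModuleCat.of A M) (ModuleCat.of A W) 1 :=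
  wShift (W := W) hex hinc hg 0 ∘ₗ
    (Abelian.Ext.linearEquiv₀ (R := A)).symm.toLinearMap ∘ₗ
      (ModuleCat.homLinearEquiv (S := A) (M := ModuleCat.of A K) (N := ModuleCat.of A W)).symm.toLinearMap

lemma wShift₀_apply (φ : K →ₗ[A] W) :
    wShift₀ (W := W) hex hinc hg φ = (seqCx_shortExact inc g hex hinc hg).extClass.comp
      (Abelian.Ext.mk₀ (ModuleCat.ofHom φ)) (add_zero 1) := rfl

lemma wShift₀_surjective [Module.Projective A F] : Function.Surjective (wShift₀ (W := W) hex hinc hg) := by
  intro x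
  obtain ⟨y, hy⟩ := Abelian.Ext.contravariant_sequence_exact₃ (seqCx_shortExact inc g hex hinc hg)
    (ModuleCat.of A W) x (Subsingleton.elim (h := extZ_of_projective) _ _) (n₀ := 0) rfl
  obtain ⟨h, rfl⟩ := (Abelian.Ext.mk₀_bijective _ _).2 y
  exact ⟨h.hom, hy⟩

lemma wShift₀_eq_zero_iff (φ : K →ₗ[A] W) :
    wShift₀ (W := W) hex hinc hg φ = 0 ↔ ∃ h : F →ₗ[A] W, h ∘ₗ inc = φ := by
  rw [wShift₀_apply]
  constructor
  · intro h0
    obtain ⟨y, hy⟩ := Abelian.Ext.contravariant_sequence_exact₁
      (seqCx_shortExact inc g hex hinc hg) (ModuleCat.of A W) _ (add_zero 1) h0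
    obtain ⟨h, rfl⟩ := (Abelian.Ext.mk₀_bijective _ _).2 y
    rw [Abelian.Ext.mk₀_comp_mk₀] at hy
    exact ⟨h.hom, congrArg ModuleCat.Hom.hom ((Abelian.Ext.mk₀_bijective _ _).1 hy)⟩
  · rintro ⟨h, rfl⟩
    have h1 : Abelian.Ext.mk₀ (ModuleCat.ofHom (h ∘ₗ inc)) =
        (Abelian.Ext.mk₀ (seqCx inc g hex).f).comp (Abelian.Ext.mk₀ (ModuleCat.ofHom h))
          (add_zero 0) := (Abelian.Ext.mk₀_comp_mk₀ _ _).symm
    rw [h1, ← Abelian.Ext.comp_assoc (a₁₂ := 1) (a₂₃ := 0) _ _ _ (add_zero 1) (add_zero 0)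
      (by omega), (seqCx_shortExact inc g hex hinc hg).extClass_comp, Abelian.Ext.zero_comp]

lemma wShift_bijective [Module.Projective A F] (j : ℕ) :
    Function.Bijective (wShift (W := W) hex hinc hg (j + 1)) := by
  have hS := seqCx_shortExact inc g hex hinc hg
  constructor
  · rw [injective_iff_map_eq_zero]
    intro y hy
    obtain ⟨z, rfl⟩ := Abelian.Ext.contravariant_sequence_exact₁ hS (ModuleCat.of A W) y
      (Nat.add_comm 1 (j + 1)) hy
    rw [Subsingleton.elim (h := extZ_of_projective) z 0, Abelian.Ext.comp_zero]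
  · intro x
    obtain ⟨y, hy⟩ := Abelian.Ext.contravariant_sequence_exact₃ hS (ModuleCat.of A W) x
      (Subsingleton.elim (h := extZ_of_projective) _ _) (Nat.add_comm 1 (j + 1))
    exact ⟨y, hy⟩

end Shift

variable [IsNoetherianRing A]

/-- Local duality, for the `Abelian.Ext` groups. -/
theorem nonempty_duality {r : ℕ} (hdim : ringKrullDim A = r)
    (hvan : ∀ i, i < r → Subsingleton (Hm (A := A) i A))
    {W : Type u} [AddCommGroup W] [Module A W] [Module.Finite A W]
    {E : Type u} [AddCommGroup E] [Module A E] (hE : Module.Injective A E)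
    (e : Hm (A := A) r A →ₗ[A] (W →ₗ[A] E)) (he : Function.Bijective e) :
    ∀ (j : ℕ) (M : Type u) [AddCommGroup M] [Module A M] [Module.Finite A M] (i : ℕ), i + j = r →
      Nonempty (Hm (A := A) i M ≃ₗ[A]
        (Abelian.Ext (ModuleCat.of A M) (ModuleCat.of A W) j →ₗ[A] E)) := by
  obtain ⟨t, ht⟩ := exists_trace hdim e
  intro j
  induction j with
  | zero =>
    intro M _ _ _ i hi
    obtain rfl : r = i := by omega
    exact ⟨(LinearEquiv.ofBijective _ (Θ_bijective hdim hE e t ht he M)).trans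
      (LinearEquiv.congrLeft (M := E) A
        ((Abelian.Ext.linearEquiv₀ (R := A)).trans
          (ModuleCat.homLinearEquiv (S := A) (M := ModuleCat.of A M) (N := ModuleCat.of A W))).symm)⟩
  | succ j ih =>
    intro M _ _ _ i hi
    obtain ⟨n, g, hg⟩ := Module.Finite.exists_fin' A M
    set inc := (LinearMap.ker g).subtype with hincdef
    have hex : Function.Exact inc g := LinearMap.exact_subtype_ker_map g
    have hinc : Function.Injective inc := Submodule.injective_subtype _
    have hS := seqCx_shortExact inc g hex hinc hg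
    have hF : ∀ k, k < r → Subsingleton (Hm (A := A) k (Fin n → A)) := fun k hk =>
      subsingleton_H_pi _ k (hvan k hk) n
    let dlt : Hm (A := A) i M →ₗ[A] Hm (A := A) (i + 1) (LinearMap.ker g) := δ hS i
    have hδ : Function.Injective dlt := by
      rw [injective_iff_map_eq_zero]
      intro x hx
      obtain ⟨y, rfl⟩ := (exact₃ hS i x).1 hx
      haveI := hF i (by omega)
      rw [Subsingleton.elim (y : Hm (A := A) i (Fin n → A)) 0, map_zero]
    obtain ⟨D⟩ := ih (LinearMap.ker g) (i + 1) (by omega)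
    cases j with
    | succ j =>
      have hδs : Function.Surjective dlt := fun y => (exact₁ hS i y).1
        ((hF (i + 1) (by omega)).elim _ _)
      exact ⟨(LinearEquiv.ofBijective dlt ⟨hδ, hδs⟩).trans (D.trans
        (LinearEquiv.congrLeft (M := E) A
          (LinearEquiv.ofBijective _ (wShift_bijective (W := W) hex hinc hg j))))⟩
    | zero =>
      obtain rfl : r = i + 1 := by omega
      set θK := LinearEquiv.ofBijective _ (Θ_bijective hdim hE e t ht he (LinearMap.ker g))
      set d₀ := wShift₀ (W := W) hex hinc hg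
      have hd₀ : Function.Surjective d₀ := wShift₀_surjective (W := W) hex hinc hg
      let L : (Abelian.Ext (ModuleCat.of A M) (ModuleCat.of A W) (0 + 1) →ₗ[A] E) →ₗ[A]
          Hm (A := A) (i + 1) (LinearMap.ker g) :=
        θK.symm.toLinearMap ∘ₗ LinearMap.lcomp A E d₀
      have hL : Function.Injective L := fun u v h =>
        LinearMap.lcomp_injective_of_surjective d₀ hd₀ (θK.symm.injective h)
      have hrange : LinearMap.range dlt = LinearMap.range L := by
        ext z
        constructor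
        · rintro ⟨x, rfl⟩
          have hz : Hmap (i + 1) inc (dlt x) = 0 := (exact₁ hS i).apply_apply_eq_zero x
          have hle : LinearMap.ker d₀ ≤ LinearMap.ker (θK (dlt x)) := fun φ hφ => by
            obtain ⟨h, rfl⟩ := (wShift₀_eq_zero_iff (W := W) hex hinc hg φ).1 hφ
            show Θ (i + 1) t (LinearMap.ker g) (dlt x) (h ∘ₗ inc) = 0
            rw [← Θ_natural, hz, map_zero, LinearMap.zero_apply]
          refine ⟨(LinearMap.ker d₀).liftQ _ hle ∘ₗ
            (d₀.quotKerEquivOfSurjective hd₀).symm.toLinearMap, θK.injective ?_⟩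
          rw [show θK (L _) = _ from θK.apply_symm_apply _]
          refine LinearMap.ext fun φ => ?_
          show (LinearMap.ker d₀).liftQ _ hle ((d₀.quotKerEquivOfSurjective hd₀).symm (d₀ φ)) = _
          rw [show (d₀.quotKerEquivOfSurjective hd₀).symm (d₀ φ) = Submodule.Quotient.mk φ from
            (d₀.quotKerEquivOfSurjective hd₀).symm_apply_eq.2 rfl]
          rfl
        · rintro ⟨ψ, rfl⟩
          refine (exact₁ hS i (L ψ)).1 ?_
          show Hmap (i + 1) inc (L ψ) = 0
          refine (Θ_bijective_pi (i + 1) e t ht he n).1 ?_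
          rw [map_zero]
          refine LinearMap.ext fun h => ?_
          rw [Θ_natural, LinearMap.zero_apply]
          show θK (L ψ) (h ∘ₗ inc) = 0
          rw [show θK (L ψ) = ψ ∘ₗ d₀ from θK.apply_symm_apply _, LinearMap.comp_apply,
            (wShift₀_eq_zero_iff (W := W) hex hinc hg _).2 ⟨h, rfl⟩, map_zero]
      exact ⟨(LinearEquiv.ofInjective dlt hδ).trans ((LinearEquiv.ofEq _ _ hrange).trans
        (LinearEquiv.ofInjective L hL).symm)⟩

end Groth.CanMod
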